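import Cfsg.Agent.Inv.CyclicSylow
import Cfsg.Agent.Perm.NormalMulti

/-!
Normal subgroups of doubly transitive groups of degree congruent to 2 modulo 4.
-/

set_option autoImplicit false
set_option linter.style.haveILetI false

namespace CfsgLib.Base.TwoModFour

open MulAction

variable {G α : Type*} [Group G] [Finite G] [MulAction G α] [Finite α]

theorem mem_normalizer_of_forall (P : Subgroup G) {l : G} (h : ∀ x ∈ P, l * x * l⁻¹ ∈ P) :
    l ∈ Subgroup.normalizer (P : Set G) := by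
  have e : P.map (MulAut.conj l).toMonoidHom = P := by
    refine Subgroup.eq_of_le_of_card_ge ?_ ?_
    · rintro _ ⟨x, hx, rfl⟩; exact h x hx
    · rw [Subgroup.card_map_of_injective (MulAut.conj l).injective]
  rw [Subgroup.mem_normalizer_iff]
  refine fun x => ⟨h x, fun hx => ?_⟩
  rw [← e] at hx
  obtain ⟨y, hy, hy2⟩ := hx
  have : y = x := mul_left_cancel (mul_right_cancel (show l * y * l⁻¹ = l * x * l⁻¹ from hy2))
  exact this ▸ hy

/-- Odd power detection in a subgroup of index two. -/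
theorem mem_of_odd_pow {Q : Type*} [Group Q] {H : Subgroup Q} (hH : H.index = 2) {x : Q} {e : ℕ}
    (he : Odd e) (hx : x ^ e ∈ H) : x ∈ H := by
  obtain ⟨k, rfl⟩ := he
  rw [pow_succ, pow_mul] at hx
  exact (H.mul_mem_cancel_left (pow_mem (Subgroup.sq_mem_of_index_two hH x) k)).1 hx

theorem two_fixed {N : Subgroup G} [hNn : N.Normal] (h2 : IsMultiplyPretransitive G α 2)
    [IsPretransitive N α] (hn : Nat.card α % 4 = 2) (a : α) :
    ∀ c : α, c ≠ a → ∀ d : α, d ≠ a → ∃ h ∈ N ⊓ stabilizer G a, h • c = d := by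
  classical
  haveI : Fact (Nat.Prime 2) := ⟨Nat.prime_two⟩
  set H : Subgroup G := N ⊓ stabilizer G a with hH
  obtain ⟨S⟩ : Nonempty (Sylow 2 H) := inferInstance
  set P : Subgroup G := (S : Subgroup H).map H.subtype with hP
  have hPH : P ≤ H := Subgroup.map_subtype_le _
  have hP2 : IsPGroup 2 P := S.isPGroup'.map _
  have hPmax : ∀ R : Subgroup G, R ≤ H → IsPGroup 2 R → P ≤ R → R = P := by
    intro R hRH hR hPR
    have h1 : R.subgroupOf H = S := by
      refine S.is_maximal' (hR.of_equiv (Subgroup.subgroupOfEquivOfLe hRH).symm) ?_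
      intro x hx
      exact Subgroup.mem_subgroupOf.2 (hPR ⟨x, hx, rfl⟩)
    rw [hP, ← h1, Subgroup.map_subgroupOf_eq_of_le hRH]
  have hPodd : Odd (P.relIndex H) := by
    have : P.subgroupOf H = S := Subgroup.comap_map_eq_self_of_injective Subtype.val_injective _
    rw [Subgroup.relIndex, this, Nat.odd_iff]
    have := S.not_dvd_index
    omega
  -- Sylow conjugation inside a subgroup between `P` and `H`
  have hconj : ∀ H' : Subgroup G, P ≤ H' → H' ≤ H → ∀ g : G, (∀ x ∈ P, g * x * g⁻¹ ∈ H') →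
      ∃ h ∈ H', ∀ x ∈ P, ∃ y ∈ P, h⁻¹ * x * h = g * y * g⁻¹ := by
    intro H' hPH' hH'H g hg
    set R : Subgroup G := P.map (MulAut.conj g).toMonoidHom with hR
    have hRH' : R ≤ H' := by rintro _ ⟨x, hx, rfl⟩; exact hg x hx
    obtain ⟨S', hS'⟩ := IsPGroup.exists_le_sylow (hP2.of_equiv (Subgroup.subgroupOfEquivOfLe hPH').symm)
    obtain ⟨R', hR'⟩ := IsPGroup.exists_le_sylow
      ((hP2.map (MulAut.conj g).toMonoidHom).of_equiv (Subgroup.subgroupOfEquivOfLe hRH').symm)
    have hS'P : (S' : Subgroup H').map H'.subtype = P :=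
      hPmax _ ((Subgroup.map_subtype_le _).trans hH'H) (S'.isPGroup'.map _)
        (fun x hx => ⟨⟨x, hPH' hx⟩, hS' hx, rfl⟩)
    have hR'R : (R' : Subgroup H').map H'.subtype = R := by
      symm
      refine Subgroup.eq_of_le_of_card_ge (fun x hx => ⟨⟨x, hRH' hx⟩, hR' hx, rfl⟩) ?_
      have hc1 : Nat.card R = Nat.card P := by
        rw [hR, Subgroup.card_map_of_injective (MulAut.conj g).injective]
      have hc2 : Nat.card (R' : Subgroup H') = Nat.card P := by
        rw [← hS'P, Subgroup.card_map_of_injective H'.subtype_injective, R'.card_eq_multiplicity,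
          S'.card_eq_multiplicity]
      rw [Subgroup.card_map_of_injective H'.subtype_injective, hc1, hc2]
    obtain ⟨k, hk⟩ := MulAction.exists_smul_eq H' R' S'
    refine ⟨(k : G), k.2, fun x hx => ?_⟩
    rw [← hS'P] at hx
    obtain ⟨x', hx', rfl⟩ := hx
    rw [← hk] at hx'
    obtain ⟨z, hz, hzx⟩ := hx'
    have hzR : (z : G) ∈ R := hR'R ▸ ⟨z, hz, rfl⟩
    obtain ⟨y, hy, hyz⟩ := hzR
    refine ⟨y, hy, ?_⟩
    have e : (x' : G) = (k : G) * (z : G) * (k : G)⁻¹ := by rw [← hzx]; rfl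
    show (k : G)⁻¹ * (x' : G) * (k : G) = _
    rw [e, show g * y * g⁻¹ = (z : G) from hyz]; group
  -- the setwise stabiliser of `P` is transitive on its fixed points other than `a`
  have hfixa : ∀ x ∈ P, x • a = a := fun x hx => (hPH hx).2
  have hL : ∀ b : α, b ≠ a → (∀ x ∈ P, x • b = b) → ∀ c : α, c ≠ a → (∀ x ∈ P, x • c = c) →
      ∃ l : G, l ∈ Subgroup.normalizer (P : Set G) ∧ l • a = a ∧ l • b = c := by
    intro b hb hbf c hc hcf
    obtain ⟨g, hga, hgb⟩ := CfsgLib.Perm.exists_smul_two h2 hb.symm hc.symm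
    have hga' : g⁻¹ • a = a := inv_smul_eq_iff.2 hga.symm
    obtain ⟨h, hh, hhP⟩ := hconj (H ⊓ stabilizer G c) (fun x hx => ⟨hPH hx, hcf x hx⟩) inf_le_left g
      (fun x hx => ⟨⟨hNn.conj_mem x (hPH hx).1 g, by
        show (g * x * g⁻¹) • a = a
        rw [mul_smul, mul_smul, hga', hfixa x hx, hga]⟩, by
        show (g * x * g⁻¹) • c = c
        rw [mul_smul, mul_smul, ← hgb, inv_smul_smul, hbf x hx]⟩)
    refine ⟨h * g, ?_, by rw [mul_smul, hga]; exact hh.1.2, by rw [mul_smul, hgb]; exact hh.2⟩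
    have := mem_normalizer_of_forall P (l := (h * g)⁻¹) fun x hx => by
      obtain ⟨y, hy, e⟩ := hhP x hx
      rw [show (h * g)⁻¹ * x * (h * g)⁻¹⁻¹ = g⁻¹ * (h⁻¹ * x * h) * g by group, e]
      rwa [show g⁻¹ * (g * y * g⁻¹) * g = y by group]
    exact inv_inv (h * g) ▸ inv_mem this
  -- a 2-element moving `a` and normalizing `P`
  have hidxN : H.relIndex N = Nat.card α := by
    rw [hH, Subgroup.inf_relIndex_left]
    have : (stabilizer G a).subgroupOf N = stabilizer N a := by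
      ext x; simp [Subgroup.mem_subgroupOf, mem_stabilizer_iff, Subgroup.smul_def]
    rw [Subgroup.relIndex, this]
    exact index_stabilizer_of_transitive N a
  have hPN : P ≤ N := hPH.trans inf_le_left
  have hPrel : P.relIndex N % 4 = 2 := by
    rw [← Subgroup.relIndex_mul_relIndex P H N hPH inf_le_left, hidxN, Nat.mul_mod, hn]
    obtain ⟨e, he⟩ := hPodd
    omega
  obtain ⟨T', hT'⟩ := IsPGroup.exists_le_sylow (hP2.of_equiv (Subgroup.subgroupOfEquivOfLe hPN).symm)
  set T : Subgroup G := (T' : Subgroup N).map N.subtype with hT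
  have hPT : P ≤ T := fun x hx => ⟨⟨x, hPN hx⟩, hT' hx, rfl⟩
  have hTN : T ≤ N := Subgroup.map_subtype_le _
  have hT2 : IsPGroup 2 T := T'.isPGroup'.map _
  have hrelT : P.relIndex T = 2 := by
    have hmul := Subgroup.relIndex_mul_relIndex P T N hPT hTN
    have hodd : ¬ 2 ∣ T.relIndex N := by
      rw [Subgroup.relIndex, show T.subgroupOf N = T' from
        Subgroup.comap_map_eq_self_of_injective Subtype.val_injective _]
      exact T'.not_dvd_index
    obtain ⟨j, hj⟩ := IsPGroup.index hT2 (P.subgroupOf T)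
    rw [show P.relIndex T = (P.subgroupOf T).index from rfl, hj] at hmul ⊢
    rcases j with _ | _ | j
    · rw [pow_zero, one_mul] at hmul
      omega
    · rfl
    · have : 4 ∣ P.relIndex N := ⟨2 ^ j * T.relIndex N, by rw [← hmul]; ring⟩
      omega
  obtain ⟨t, htT, htP⟩ : ∃ t ∈ T, t ∉ P := Set.not_subset.1 fun h => by
    have := Subgroup.relIndex_eq_one.2 h
    omega
  haveI hPTn : (P.subgroupOf T).Normal := Subgroup.normal_of_index_eq_two hrelT
  have htn : t ∈ Subgroup.normalizer (P : Set G) := mem_normalizer_of_forall P fun x hx =>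
    hPTn.conj_mem ⟨x, hPT hx⟩ hx ⟨t, htT⟩
  have htsq : t ^ 2 ∈ P := Subgroup.sq_mem_of_index_two hrelT (⟨t, htT⟩ : T)
  set b := t • a with hb
  have hba : b ≠ a := by
    intro e
    have hTH : T ≤ H := by
      intro x hx
      by_cases hxP : x ∈ P
      · exact hPH hxP
      · have h1 : (⟨t, htT⟩ : T)⁻¹ * ⟨x, hx⟩ ∈ P.subgroupOf T :=
          (Subgroup.mul_mem_iff_of_index_two hrelT).2
            ⟨fun h => absurd (inv_mem_iff.1 (Subgroup.mem_subgroupOf.1 h)) htP,
              fun h => absurd (Subgroup.mem_subgroupOf.1 h) hxP⟩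
        have h2 : t⁻¹ * x ∈ H := hPH (Subgroup.mem_subgroupOf.1 h1)
        have htH : t ∈ H := ⟨hTN htT, e⟩
        have := mul_mem htH h2
        rwa [mul_inv_cancel_left] at this
    exact htP (hPmax T hTH hT2 hPT ▸ htT)
  have hbf : ∀ x ∈ P, x • b = b := by
    intro x hx
    have : t⁻¹ * x * t ∈ P := (Subgroup.mem_normalizer_iff''.1 htn x).1 hx
    calc x • b = t • ((t⁻¹ * x * t) • a) := by rw [hb, ← mul_smul, ← mul_smul]; congr 1; group
      _ = b := by rw [hfixa _ this]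
  -- the index two subgroup of the normaliser of `P` in `N`
  set K : Subgroup G := N ⊓ Subgroup.normalizer (P : Set G) with hK
  have hPK : P ≤ K := le_inf hPN Subgroup.le_normalizer
  haveI : (P.subgroupOf K).Normal :=
    ⟨fun x hx g => Subgroup.mem_subgroupOf.2 ((Subgroup.mem_normalizer_iff.1 g.2.2 _).1 (Subgroup.mem_subgroupOf.1 hx))⟩
  have htK : t ∈ K := ⟨hTN htT, htn⟩
  set m := Nat.card (↥K ⧸ P.subgroupOf K) / 2 with hm
  have hQdvd : Nat.card (↥K ⧸ P.subgroupOf K) ∣ P.relIndex N :=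
    Dvd.intro _ (Subgroup.relIndex_mul_relIndex P K N hPK inf_le_left)
  have hQeven : 2 ∣ Nat.card (↥K ⧸ P.subgroupOf K) := by
    have : orderOf (QuotientGroup.mk (⟨t, htK⟩ : K) : ↥K ⧸ P.subgroupOf K) = 2 :=
      orderOf_eq_prime ((QuotientGroup.eq_one_iff _).2 (Subgroup.mem_subgroupOf.2 htsq))
        fun h => htP (Subgroup.mem_subgroupOf.1 ((QuotientGroup.eq_one_iff (⟨t, htK⟩ : K)).1 h))
    exact this ▸ orderOf_dvd_natCard _
  have hmodd : Odd m := by
    rw [Nat.odd_iff, hm]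
    obtain ⟨u, hu⟩ := hQeven
    obtain ⟨v, hv⟩ := hQdvd
    rw [hu, mul_assoc] at hv
    rw [hu, Nat.mul_div_cancel_left _ two_pos]
    rcases Nat.mod_two_eq_zero_or_one u with h | h
    · obtain ⟨w, rfl⟩ := Nat.dvd_of_mod_eq_zero h
      rw [mul_assoc] at hv
      omega
    · exact h
  obtain ⟨J, hJ⟩ : ∃ J : Subgroup (↥K ⧸ P.subgroupOf K), J.index = 2 := by
    obtain ⟨SQ⟩ : Nonempty (Sylow 2 (↥K ⧸ P.subgroupOf K)) := inferInstance
    refine CfsgLib.Inv.exists_index_two_of_cyclic_sylow (even_iff_two_dvd.2 hQeven) SQ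
      (isCyclic_of_prime_card (p := 2) ?_)
    have h1 := SQ.card_eq_multiplicity
    have h2 : Nat.card (↥K ⧸ P.subgroupOf K) = 2 * m := (Nat.mul_div_cancel' hQeven).symm
    rw [h1, h2, Nat.factorization_mul two_ne_zero (by rw [Nat.odd_iff] at hmodd; omega),
      Finsupp.add_apply, Nat.Prime.factorization_self Nat.prime_two,
      Nat.factorization_eq_zero_of_not_dvd (by rw [Nat.odd_iff] at hmodd; omega)]
    rfl
  have hJiff : ∀ x : G, ∀ hx : x ∈ K, (QuotientGroup.mk (⟨x, hx⟩ : K) : ↥K ⧸ P.subgroupOf K) ∈ J ↔ x ^ m ∈ P := by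
    intro x hx
    constructor
    · intro h
      have hc : Nat.card J = m := by
        have := J.card_mul_index
        rw [hJ] at this
        omega
      have h1 : (QuotientGroup.mk (⟨x, hx⟩ : K) : ↥K ⧸ P.subgroupOf K) ^ m = 1 := by
        have := pow_card_eq_one' (x := (⟨_, h⟩ : J))
        rw [hc] at this
        exact congrArg Subtype.val this
      rw [← QuotientGroup.mk_pow, QuotientGroup.eq_one_iff, Subgroup.mem_subgroupOf] at h1
      exact h1
    · intro h
      refine mem_of_odd_pow hJ hmodd ?_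
      rw [← QuotientGroup.mk_pow, (QuotientGroup.eq_one_iff _).2 (Subgroup.mem_subgroupOf.2 (by exact h))]
      exact one_mem J
  have hKa : ∀ x ∈ K, x • a = a → x ^ m ∈ P := by
    intro x hx hxa
    rw [← hJiff x hx]
    have hxH : x ∈ H := ⟨hx.1, hxa⟩
    haveI : (P.subgroupOf (K ⊓ H)).Normal :=
      ⟨fun y hy g => Subgroup.mem_subgroupOf.2
        ((Subgroup.mem_normalizer_iff.1 g.2.1.2 _).1 (Subgroup.mem_subgroupOf.1 hy))⟩
    have he : (x : G) ^ P.relIndex (K ⊓ H) ∈ P :=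
      Subgroup.mem_subgroupOf.1 (Subgroup.pow_index_mem (P.subgroupOf (K ⊓ H)) (⟨x, hx, hxH⟩ : ↥(K ⊓ H)))
    refine mem_of_odd_pow hJ (e := P.relIndex (K ⊓ H)) ?_ ?_
    · exact hPodd.of_dvd_nat (Dvd.intro _ (Subgroup.relIndex_mul_relIndex P (K ⊓ H) H (le_inf hPK hPH) inf_le_right))
    · rw [← QuotientGroup.mk_pow, (QuotientGroup.eq_one_iff _).2 (Subgroup.mem_subgroupOf.2 (by exact he))]
      exact one_mem J
  have hKfix : ∀ x ∈ K, ∀ p ∈ P, p • (x • a) = x • a := by
    intro x hx p hp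
    have : x⁻¹ * p * x ∈ P := (Subgroup.mem_normalizer_iff''.1 hx.2 p).1 hp
    calc p • x • a = x • ((x⁻¹ * p * x) • a) := by rw [← mul_smul, ← mul_smul]; congr 1; group
      _ = x • a := by rw [hfixa _ this]
  have hKconj : ∀ l ∈ Subgroup.normalizer (P : Set G), ∀ x ∈ K, l * x * l⁻¹ ∈ K := fun l hl x hx =>
    ⟨hNn.conj_mem x hx.1 l, Subgroup.mul_mem _ (Subgroup.mul_mem _ hl hx.2) (Subgroup.inv_mem _ hl)⟩
  -- the kernel part fixes `a`
  have hJa : ∀ x ∈ K, x ^ m ∈ P → x • a = a := by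
    intro x hx hxm
    by_contra hne
    obtain ⟨l, hl, hla, hlc⟩ := hL (x • a) hne (hKfix x hx) b hba hbf
    have hla' : l⁻¹ • a = a := inv_smul_eq_iff.2 hla.symm
    have hx' := hKconj l hl x hx
    have hxm' : (l * x * l⁻¹) ^ m ∈ P := by
      rw [conj_pow]; exact (Subgroup.mem_normalizer_iff.1 hl _).1 hxm
    have hfix : ((l * x * l⁻¹)⁻¹ * t) • a = a := by
      rw [mul_smul, inv_smul_eq_iff, mul_smul, mul_smul, hla', hlc]
    have h1 := hKa _ (mul_mem (inv_mem hx') htK) hfix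
    rw [← hJiff _ (mul_mem (inv_mem hx') htK)] at h1
    rw [← hJiff _ hx'] at hxm'
    have h2 := mul_mem hxm' h1
    rw [← QuotientGroup.mk_mul] at h2
    have h3 : t ^ m ∈ P := by
      rw [← hJiff t htK]
      convert h2 using 2
      exact Subtype.ext (by simp [mul_assoc])
    obtain ⟨k, hk⟩ := hmodd
    rw [hk, pow_succ, pow_mul] at h3
    exact htP ((P.mul_mem_cancel_left (pow_mem htsq k)).1 h3)
  have htwo : ∀ c : α, c ≠ a → (∀ x ∈ P, x • c = c) → c = b := by
    intro c hc hcf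
    obtain ⟨l, hl, hla, hlb⟩ := hL b hba hbf c hc hcf
    have hla' : l⁻¹ • a = a := inv_smul_eq_iff.2 hla.symm
    have hk := hKconj l hl t htK
    have hka : (l * t * l⁻¹) • a = c := by rw [mul_smul, mul_smul, hla', ← hb, hlb]
    have hkJ : (QuotientGroup.mk (⟨_, hk⟩ : K) : ↥K ⧸ P.subgroupOf K) ∉ J := fun h =>
      hc (hka.symm.trans (hJa _ hk ((hJiff _ hk).1 h)))
    have htJ : (QuotientGroup.mk (⟨t, htK⟩ : K) : ↥K ⧸ P.subgroupOf K) ∉ J := fun h =>
      hba (hJa _ htK ((hJiff _ htK).1 h))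
    have h1 : (QuotientGroup.mk (⟨t, htK⟩ : K) : ↥K ⧸ P.subgroupOf K)⁻¹ * QuotientGroup.mk (⟨_, hk⟩ : K) ∈ J :=
      (Subgroup.mul_mem_iff_of_index_two hJ).2
        ⟨fun h => absurd (inv_mem_iff.1 h) htJ, fun h => absurd h hkJ⟩
    have h2 := hJa (t⁻¹ * (l * t * l⁻¹)) (mul_mem (inv_mem htK) hk) ((hJiff _ (mul_mem (inv_mem htK) hk)).1 h1)
    rw [mul_smul, hka, inv_smul_eq_iff] at h2
    exact h2.trans hb.symm
  have horb : ∀ c : α, c ≠ a → ∃ h ∈ H, h • c = b := by
    intro c hc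
    obtain ⟨g, hga, hgb⟩ := CfsgLib.Perm.exists_smul_two h2 hba.symm hc.symm
    have hga' : g⁻¹ • a = a := inv_smul_eq_iff.2 hga.symm
    obtain ⟨h, hh, hhP⟩ := hconj H hPH le_rfl g fun x hx =>
      ⟨hNn.conj_mem x (hPH hx).1 g, by
        show (g * x * g⁻¹) • a = a
        rw [mul_smul, mul_smul, hga', hfixa x hx, hga]⟩
    refine ⟨h, hh, htwo _ (fun e => hc ?_) fun x hx => ?_⟩
    · exact (smul_left_cancel h (e.trans (show h • a = a from hh.2).symm))
    · obtain ⟨y, hy, e⟩ := hhP x hx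
      have h1 : (h⁻¹ * x * h) • c = c := by
        rw [e, mul_smul, mul_smul, ← hgb, inv_smul_smul, hbf y hy]
      rw [mul_smul, mul_smul, inv_smul_eq_iff] at h1
      exact h1
  intro c hc d hd
  obtain ⟨h₁, hh₁, e₁⟩ := horb c hc
  obtain ⟨h₂, hh₂, e₂⟩ := horb d hd
  exact ⟨h₂⁻¹ * h₁, mul_mem (inv_mem hh₂) hh₁, by rw [mul_smul, e₁, ← e₂, inv_smul_smul]⟩

/-- A normal subgroup `N ≠ ⊥` is doubly transitive and has trivial centralizer. -/
theorem normal_two_transitive [FaithfulSMul G α] (h2 : IsMultiplyPretransitive G α 2)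
    (hn : Nat.card α % 4 = 2) (hn2 : 2 < Nat.card α) (N : Subgroup G) [hNn : N.Normal] (hN : N ≠ ⊥) :
    IsMultiplyPretransitive N α 2 ∧ Subgroup.centralizer (N : Set G) = ⊥ := by
  classical
  haveI := CfsgLib.Perm.isPretransitive_of_normal h2 N hN
  obtain ⟨a⟩ : Nonempty α := (Nat.card_pos_iff.1 (by omega)).1
  refine ⟨is_two_pretransitive_iff.2 ?_, ?_⟩
  · intro x y x' y' hxy hxy'
    obtain ⟨g, hg⟩ := exists_smul_eq N x x'
    have hgy : g • y ≠ x' := fun e => hxy (smul_left_cancel g (hg.trans e.symm))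
    obtain ⟨h, hh, e⟩ := two_fixed h2 (N := N) hn x' (g • y) hgy y' hxy'.symm
    refine ⟨⟨h, hh.1⟩ * g, ?_, ?_⟩
    · rw [mul_smul, hg]; exact hh.2
    · rw [mul_smul]; exact e
  by_contra hC
  haveI : (Subgroup.centralizer (N : Set G)).Normal := inferInstance
  haveI := CfsgLib.Perm.isPretransitive_of_normal h2 _ hC
  have hsemi : ∀ x ∈ N, ∀ p : α, x • p = p → x = 1 := by
    intro x hx p hp
    refine eq_of_smul_eq_smul fun q : α => ?_
    obtain ⟨c, rfl⟩ := exists_smul_eq (Subgroup.centralizer (N : Set G)) p q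
    rw [one_smul, Subgroup.smul_def, ← mul_smul, Subgroup.mem_centralizer_iff.1 c.2 x hx, mul_smul, hp]
  have hcard : Nat.card N = Nat.card α := Nat.card_congr (Equiv.ofBijective (fun x : N => x • a)
    ⟨fun x y e => by
      have e' : ((y⁻¹ * x : N) : G) • a = a := by
        show (y⁻¹ * x) • a = a
        rw [mul_smul, inv_smul_eq_iff]; exact e
      exact (inv_mul_eq_one.1 (Subtype.ext (hsemi _ (y⁻¹ * x).2 a e'))).symm,
    fun q => exists_smul_eq N a q⟩)
  haveI : Fact (Nat.Prime 2) := ⟨Nat.prime_two⟩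
  obtain ⟨u, hu⟩ := exists_prime_orderOf_dvd_card' (G := N) 2 (by omega)
  have hu1 : u ≠ 1 := by rintro rfl; simp at hu
  have hexp : ∀ x : N, x ≠ 1 → orderOf x = 2 := by
    intro x hx
    have hua : u • a ≠ a := fun e => hu1 (Subtype.ext (hsemi _ u.2 a e))
    have hxa : x • a ≠ a := fun e => hx (Subtype.ext (hsemi _ x.2 a e))
    obtain ⟨g, hga, hgu⟩ := CfsgLib.Perm.exists_smul_two h2 hua.symm hxa.symm
    have hga' : g⁻¹ • a = a := inv_smul_eq_iff.2 hga.symm
    have e : (g * (u : G) * g⁻¹)⁻¹ * (x : G) = 1 := by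
      refine hsemi _ (mul_mem (inv_mem (hNn.conj_mem _ u.2 g)) x.2) a ?_
      rw [mul_smul, inv_smul_eq_iff, mul_smul, mul_smul, hga']
      exact hgu.symm
    rw [inv_mul_eq_one] at e
    rw [← Subgroup.orderOf_coe, ← e, show g * (u : G) * g⁻¹ = MulAut.conj g (u : G) from rfl,
      MulEquiv.orderOf_eq, Subgroup.orderOf_coe, hu]
  have hp : IsPGroup 2 N := fun x => by
    by_cases hx : x = 1
    · exact ⟨0, by simp [hx]⟩
    · exact ⟨1, by rw [pow_one, ← hexp x hx]; exact pow_orderOf_eq_one x⟩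
  obtain ⟨k, hk⟩ := IsPGroup.iff_card.1 hp
  rw [hcard] at hk
  rcases k with _ | _ | k
  · omega
  · omega
  · rw [pow_succ, pow_succ, mul_assoc] at hk
    omega

theorem exists_simple [FaithfulSMul G α] (h2 : IsMultiplyPretransitive G α 2)
    (hn : Nat.card α % 4 = 2) (hn2 : 2 < Nat.card α) :
    ∃ M : Subgroup G, M.Normal ∧ M ≠ ⊥ ∧ (∀ N : Subgroup G, N.Normal → N ≠ ⊥ → M ≤ N) ∧
      IsSimpleGroup ↥M ∧ IsMultiplyPretransitive ↥M α 2 ∧ Subgroup.centralizer (M : Set G) = ⊥ := by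
  classical
  have key : ∀ {H : Type _} [Group H] [Finite H] [MulAction H α] [FaithfulSMul H α],
      IsMultiplyPretransitive H α 2 →
      ∃ M : Subgroup H, M.Normal ∧ M ≠ ⊥ ∧ ∀ N : Subgroup H, N.Normal → N ≠ ⊥ → M ≤ N := by
    intro H _ _ _ _ hH
    have hnt : (⊤ : Subgroup H) ≠ ⊥ := by
      intro h
      haveI : Subsingleton H := ⟨fun x y => by
        have hx := h ▸ Subgroup.mem_top x
        have hy := h ▸ Subgroup.mem_top y
        rw [Subgroup.mem_bot] at hx hy
        rw [hx, hy]⟩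
      obtain ⟨a⟩ : Nonempty α := (Nat.card_pos_iff.1 (by omega)).1
      haveI : IsPretransitive H α := is_one_pretransitive_iff.1 (isMultiplyPretransitive_of_le (m := 1) (n := 2) (by norm_num) (by omega))
      haveI : Subsingleton α := ⟨fun x y => by
        obtain ⟨g, rfl⟩ := exists_smul_eq H x y
        rw [Subsingleton.elim g 1, one_smul]⟩
      have := Nat.card_of_subsingleton a
      omega
    obtain ⟨M, hM⟩ := Set.Finite.exists_minimal (s := {N : Subgroup H | N.Normal ∧ N ≠ ⊥}) (Set.toFinite _) ⟨⊤, inferInstance, hnt⟩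
    refine ⟨M, hM.1.1, hM.1.2, fun N hN hN1 => ?_⟩
    haveI := hN
    haveI := hM.1.1
    by_cases h : N ⊓ M = ⊥
    · refine absurd ((normal_two_transitive hH hn hn2 N hN1).2) fun hc => hM.1.2 ?_
      rw [eq_bot_iff, ← hc]
      intro x hx
      rw [Subgroup.mem_centralizer_iff]
      intro y hy
      exact Subgroup.commute_of_normal_of_disjoint N M hN hM.1.1 (disjoint_iff.2 h) y x hy hx
    · exact (hM.2 ⟨Subgroup.normal_inf_normal N M, h⟩ inf_le_right).trans inf_le_left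
  obtain ⟨M, hMn, hM1, hMmin⟩ := key h2
  haveI := hMn
  obtain ⟨hM2, hMC⟩ := normal_two_transitive h2 hn hn2 M hM1
  refine ⟨M, hMn, hM1, hMmin, ?_, hM2, hMC⟩
  haveI : FaithfulSMul M α := ⟨fun {x y} h => Subtype.ext (eq_of_smul_eq_smul (α := α) h)⟩
  haveI : Nontrivial M := Subgroup.nontrivial_iff_ne_bot _ |>.2 hM1
  obtain ⟨K, hKn, hK1, hKmin⟩ := key hM2
  haveI := hKn
  haveI : K.Characteristic := by
    refine Subgroup.characteristic_iff_map_le.2 fun φ => ?_
    have hle := hKmin (K.map φ.symm.toMonoidHom) (hKn.map _ φ.symm.surjective)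
      (fun h => hK1 ((Subgroup.map_eq_bot_iff_of_injective _ φ.symm.injective).1 h))
    intro x hx
    obtain ⟨y, hy, rfl⟩ := hx
    obtain ⟨z, hz, hzy⟩ := hle hy
    have : φ y = z := by rw [← hzy]; exact φ.apply_symm_apply z
    show φ y ∈ K
    rwa [this]
  have hKM : K.map M.subtype = M := le_antisymm (Subgroup.map_subtype_le _)
    (hMmin _ inferInstance fun h => hK1 ((Subgroup.map_eq_bot_iff_of_injective _ M.subtype_injective).1 h))
  have hKtop : K = ⊤ := by
    rw [eq_top_iff]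
    intro x _
    obtain ⟨y, hy, e⟩ := hKM.ge x.2
    rwa [← Subtype.ext (show (y : G) = x from e)]
  exact ⟨fun N hN => or_iff_not_imp_left.2 fun hN1 => eq_top_iff.2 (hKtop ▸ hKmin N hN hN1)⟩

end CfsgLib.Base.TwoModFour
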